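import Mathlib

/-!
Interface for the recognition of the Mathieu group of degree 23 by order and element counts:
`Facts G` is what the counting hypothesis gives.
-/

set_option autoImplicit false

namespace Cfsg.Agent.Lib.M23Nse

universe u

/-- What the order and the numbers of elements of each order give. -/
structure Facts (G : Type u) [Group G] : Prop where
  card : Nat.card G = 10200960
  simple : IsSimpleGroup G
  ord_mem : ∀ g : G, orderOf g ∈ ({1, 2, 3, 4, 5, 6, 7, 8, 11, 14, 15, 23} : Finset ℕ)
  c2 : Nat.card {g : G // orderOf g = 2} = 3795
  c3 : Nat.card {g : G // orderOf g = 3} = 56672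
  c5 : Nat.card {g : G // orderOf g = 5} = 680064
  c6 : Nat.card {g : G // orderOf g = 6} = 850080
  c7 : Nat.card {g : G // orderOf g = 7} = 1457280
  c11 : Nat.card {g : G // orderOf g = 11} = 1854720
  c14 : Nat.card {g : G // orderOf g = 14} = 1457280
  c15 : Nat.card {g : G // orderOf g = 15} = 1360128
  c23 : Nat.card {g : G // orderOf g = 23} = 887040

end Cfsg.Agent.Lib.M23Nse
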