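import Cfsg.Agent.Lib.M23Nse.Facts
import Cfsg.Agent.Lib.M22Nse57.Hist

/-!
A group of order 10200960 whose numbers of elements of each order take exactly the eleven values
of the Mathieu group of degree 23: the histogram is forced by divisibility and by the normalisers
of the Sylow subgroups of prime order, and simplicity follows by counting.
-/

set_option autoImplicit false
set_option linter.style.haveILetI false
set_option linter.unusedSectionVars false
set_option maxHeartbeats 1000000

namespace Cfsg.Agent.Lib.M23Nse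

open Finset
open M22Nse57.Hist (cnt cnt_eq_card cnt_pos_of_orderOf exists_orderOf_of_cnt_pos cnt_one card_pow_eq_one
  prime_dvd_succ_cnt card_orderOf_mem)

universe u

namespace Hist

/-- The eleven values. -/
def vals : Finset ℕ :=
  {1, 3795, 56672, 318780, 680064, 850080, 1457280, 1275120, 1854720, 1360128, 887040}

/-- The possible further element orders. -/
def cands : List ℕ :=
  [4, 6, 8, 9, 12, 16, 18, 24, 32, 36, 48, 64, 72, 96, 128, 144, 192, 288, 384, 576, 1152]

/-- The solutions of `g ^ d = 1` for the three unknown orders `a`, `b`, `e`. -/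
def solCount (a b e d : ℕ) : ℕ :=
  1 + (if d % 2 = 0 then 3795 else 0) + (if d % 3 = 0 then 56672 else 0) +
    (if d % a = 0 then 318780 else 0) + (if d % b = 0 then 850080 else 0) +
    (if d % e = 0 then 1275120 else 0)

/-- The conditions on the three unknown orders. -/
def admissible (a b e : ℕ) : Bool :=
  (a != b && a != e && b != e) && [8, 9, 18, 32, 192].all (fun d => solCount a b e d % d == 0) &&
    [a, b, e].all fun x => [4, 8].all fun y => x % y != 0 || [a, b, e].contains y

theorem admissible_check :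
    (cands.all fun a => cands.all fun b => cands.all fun e =>
      !admissible a b e || (b == 6 && ((a == 4 && e == 8) || (a == 8 && e == 4)))) = true := by
  decide +kernel

theorem eq_of_admissible {a b e : ℕ} (ha : a ∈ cands) (hb : b ∈ cands) (he : e ∈ cands)
    (h : admissible a b e = true) : b = 6 ∧ ((a = 4 ∧ e = 8) ∨ (a = 8 ∧ e = 4)) := by
  have h0 := admissible_check
  rw [List.all_eq_true] at h0
  have h1 := h0 a ha
  rw [List.all_eq_true] at h1
  have h2 := h1 b hb
  rw [List.all_eq_true] at h2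
  have h3 := h2 e he
  rw [h] at h3
  simpa using h3

/-- A lower bound for a normal subgroup of index `i`. -/
def lowCount (i : ℕ) : ℕ :=
  1 + ((if Nat.Coprime 5 i then 680064 else 0) + ((if Nat.Coprime 7 i then 1457280 else 0) +
    ((if Nat.Coprime 11 i then 1854720 else 0) + ((if Nat.Coprime 14 i then 1457280 else 0) +
      ((if Nat.Coprime 15 i then 1360128 else 0) + (if Nat.Coprime 23 i then 887040 else 0))))))

/-- No proper normal subgroup passes the count. -/
theorem index_check : ∀ i ∈ Nat.divisors 1152, ∀ j ∈ Nat.divisors 8855,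
    1 < i * j → i * j < 10200960 → 10200960 / (i * j) < lowCount (i * j) ∨
      ¬ (10200960 / (i * j) % 11 ≤ 1 ∧ 10200960 / (i * j) % 23 ≤ 1) := by
  decide +kernel

variable {G : Type u} [Group G] [Finite G]

theorem cnt_even {n : ℕ} (h : 2 < n) : 2 ∣ cnt G n :=
  (Nat.totient_even h).two_dvd.trans (OrderCount.totient_dvd_card_orderOf (G := G) n)

/-- When the Sylow subgroups for `p` have order `p`, the elements of order `p * m` are counted by
the elements of order `m` of one centraliser. -/
theorem cnt_mul_eq {p m : ℕ} [hp : Fact p.Prime] (P : Sylow p G)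
    (hP : Nat.card (P : Subgroup G) = p) (hpm : p.Coprime m) {x : G}
    (hx : orderOf x = p) :
    cnt G (p * m) = cnt G p * cnt ↥(Subgroup.centralizer ({x} : Set G)) m := by
  classical
  -- all elements of order `p` have equally many partners of order `m`
  have hconst : ∀ x' : G, orderOf x' = p →
      Nat.card {i : G // orderOf i = m ∧ Commute x' i} =
        Nat.card {i : G // orderOf i = m ∧ Commute x i} := by
    intro x' hx'
    obtain ⟨Q, hQ, -⟩ := SmallGroups.existsUnique_sylow_of_orderOf P hP hx'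
    obtain ⟨R, hR, -⟩ := SmallGroups.existsUnique_sylow_of_orderOf P hP hx
    obtain ⟨c, hc⟩ := MulAction.exists_smul_eq G R Q
    have hle : Subgroup.zpowers (c * x * c⁻¹) ≤ Subgroup.zpowers x' := by
      rw [← hQ, Subgroup.zpowers_le, ← hc, Sylow.coe_subgroup_smul, hR]
      exact ⟨x, Subgroup.mem_zpowers _, rfl⟩
    have heq : Subgroup.zpowers (c * x * c⁻¹) = Subgroup.zpowers x' :=
      Subgroup.eq_of_le_of_card_ge hle (by
        rw [Nat.card_zpowers, Nat.card_zpowers, hx', ← MulAut.conj_apply, MulEquiv.orderOf_eq, hx])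
    refine (Nat.card_congr ((MulAut.conj c).toEquiv.subtypeEquiv fun i => ?_)).symm
    show _ ↔ orderOf (MulAut.conj c i) = m ∧ Commute x' (MulAut.conj c i)
    rw [MulEquiv.orderOf_eq, MulAut.conj_apply]
    refine and_congr_right fun _ => ⟨fun h => ?_, fun h => ?_⟩
    · have h2 : Commute (c * x * c⁻¹) (c * i * c⁻¹) := (commute_iff_eq _ _).mpr (by
        have := h.eq
        calc c * x * c⁻¹ * (c * i * c⁻¹) = c * (x * i) * c⁻¹ := by group
          _ = c * (i * x) * c⁻¹ := by rw [this]
          _ = _ := by group)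
      obtain ⟨k, hk⟩ := heq.ge (Subgroup.mem_zpowers x')
      rw [← hk]
      exact h2.zpow_left k
    · obtain ⟨k, hk⟩ := heq.le (Subgroup.mem_zpowers _)
      have h2 : Commute (c * x * c⁻¹) (c * i * c⁻¹) := hk ▸ h.zpow_left k
      refine (commute_iff_eq _ _).mpr ?_
      calc x * i = c⁻¹ * (c * x * c⁻¹ * (c * i * c⁻¹)) * c := by group
        _ = c⁻¹ * (c * i * c⁻¹ * (c * x * c⁻¹)) * c := by rw [h2.eq]
        _ = _ := by group
  -- splitting an element of order `p * m`
  obtain ⟨a, hap, ham⟩ := Nat.chineseRemainder hpm 1 0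
  obtain ⟨b, hbp, hbm⟩ := Nat.chineseRemainder hpm 0 1
  have hpow : ∀ (z : G) (k r : ℕ), k ≡ r [MOD orderOf z] → z ^ k = z ^ r :=
    fun z k r h => pow_eq_pow_iff_modEq.mpr h
  let f : (Σ x' : {g : G // orderOf g = p}, {i : G // orderOf i = m ∧ Commute x'.1 i}) →
      {g : G // orderOf g = p * m} := fun z => ⟨z.1.1 * z.2.1, by
    rw [z.2.2.2.orderOf_mul_eq_mul_orderOf_of_coprime (by rw [z.1.2, z.2.2.1]; exact hpm), z.1.2,
      z.2.2.1]⟩
  have hf : Function.Bijective f := by
    constructor
    · intro z w h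
      have h' : z.1.1 * z.2.1 = w.1.1 * w.2.1 := congrArg Subtype.val h
      have hroot : ∀ z : (Σ x' : {g : G // orderOf g = p},
          {i : G // orderOf i = m ∧ Commute x'.1 i}), (z.1.1 * z.2.1) ^ a = z.1.1 := fun z => by
        rw [z.2.2.2.mul_pow, hpow z.1.1 a 1 (by rw [z.1.2]; exact hap),
          hpow z.2.1 a 0 (by rw [z.2.2.1]; exact ham), pow_one, pow_zero, mul_one]
      have hx1 : z.1.1 = w.1.1 := by rw [← hroot z, ← hroot w, h']
      obtain ⟨⟨x1, hx1'⟩, i1, hi1'⟩ := z
      obtain ⟨⟨x2, hx2'⟩, i2, hi2'⟩ := w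
      simp only at hx1 h'
      subst hx1
      obtain rfl := mul_left_cancel h'
      rfl
    · rintro ⟨g, hg⟩
      have hab : g ^ a * g ^ b = g := by
        rw [← pow_add]
        conv_rhs => rw [← pow_one g]
        refine hpow g _ _ (hg ▸ (Nat.modEq_and_modEq_iff_modEq_mul hpm).mp ⟨?_, ?_⟩)
        · simpa using hap.add hbp
        · simpa using ham.add hbm
      have hgm1 : g ^ (p * m) = 1 := hg ▸ pow_orderOf_eq_one g
      have hA : orderOf (g ^ a) = p := by
        refine orderOf_eq_prime ?_ fun h => ?_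
        · obtain ⟨t, ht⟩ := Nat.modEq_zero_iff_dvd.mp ham
          rw [← pow_mul, ht, show m * t * p = p * m * t by ring, pow_mul, hgm1, one_pow]
        · have h2 : p ∣ a := (dvd_mul_right p m).trans (hg ▸ orderOf_dvd_of_pow_eq_one h)
          have h3 := hap.symm.trans (Nat.modEq_zero_iff_dvd.mpr h2)
          exact hp.out.ne_one (Nat.dvd_one.mp (Nat.modEq_zero_iff_dvd.mp h3))
      have hcomm : Commute (g ^ a) (g ^ b) := (Commute.refl g).pow_pow a b
      have hB : orderOf (g ^ b) = m := by
        refine Nat.dvd_antisymm (orderOf_dvd_of_pow_eq_one ?_) ?_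
        · obtain ⟨t, ht⟩ := Nat.modEq_zero_iff_dvd.mp hbp
          rw [← pow_mul, ht, show p * t * m = p * m * t by ring, pow_mul, hgm1, one_pow]
        · have h2 := hcomm.orderOf_mul_dvd_mul_orderOf
          rw [hab, hg, hA] at h2
          exact (Nat.mul_dvd_mul_iff_left hp.out.pos).mp h2
      exact ⟨⟨⟨g ^ a, hA⟩, g ^ b, hB, hcomm⟩, Subtype.ext hab⟩
  haveI := Fintype.ofFinite {g : G // orderOf g = p}
  have hK : Nat.card {i : G // orderOf i = m ∧ Commute x i} =
      cnt ↥(Subgroup.centralizer ({x} : Set G)) m := by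
    refine Nat.card_congr
      { toFun := fun i => ⟨⟨i.1, Subgroup.mem_centralizer_singleton_iff.mpr ?_⟩, ?_⟩
        invFun := fun i => ⟨i.1.1, ?_, ?_⟩
        left_inv := fun i => rfl
        right_inv := fun i => rfl }
    · exact i.2.2.symm.eq
    · rw [← Subgroup.orderOf_coe]; exact i.2.1
    · rw [Subgroup.orderOf_coe]; exact i.2
    · exact (Subgroup.mem_centralizer_singleton_iff.mp i.1.2).symm
  rw [← hK]
  unfold cnt
  rw [← Nat.card_congr (Equiv.ofBijective f hf), Nat.card_sigma,
    Finset.sum_congr rfl (fun x' _ => hconst x'.1 x'.2), Finset.sum_const, Finset.card_univ,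
    smul_eq_mul, ← Nat.card_eq_fintype_card]

/-- When the Sylow subgroups for `p` have order `p`, the number of elements of order `p` divides
the number of elements of order `p * m` for `m` prime to `p`. -/
theorem cnt_dvd_cnt_mul {p m : ℕ} [hp : Fact p.Prime] (P : Sylow p G)
    (hP : Nat.card (P : Subgroup G) = p) (hpm : p.Coprime m) (hm : m ≠ 0) :
    cnt G p ∣ cnt G (p * m) := by
  rcases eq_or_ne (cnt G p) 0 with h0 | h0
  · rw [h0]
    have : cnt G (p * m) = 0 := by
      by_contra h
      obtain ⟨g, hg⟩ := exists_orderOf_of_cnt_pos (Nat.pos_of_ne_zero h)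
      have hgm : orderOf (g ^ m) = p := by
        rw [orderOf_pow_of_dvd hm (hg ▸ dvd_mul_left m p), hg,
          Nat.mul_div_cancel _ (Nat.pos_of_ne_zero hm)]
      exact (hgm ▸ cnt_pos_of_orderOf (g ^ m)).ne' h0
    rw [this]
  obtain ⟨x, hx⟩ := exists_orderOf_of_cnt_pos (Nat.pos_of_ne_zero h0)
  exact Dvd.intro _ (cnt_mul_eq P hP hpm hx).symm

/-- An element of order divisible by `p` has order dividing that of the normaliser of a Sylow
subgroup of order `p`. -/
theorem orderOf_dvd_normalizer {p N : ℕ} [hp : Fact p.Prime] (P : Sylow p G)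
    (hP : Nat.card (P : Subgroup G) = p) (hN : cnt G p * N = (p - 1) * Nat.card G) {g : G}
    (hg : p ∣ orderOf g) : orderOf g ∣ N := by
  obtain ⟨m, hm⟩ := hg
  have hm0 : m ≠ 0 := fun h => (orderOf_pos g).ne' (by rw [hm, h, mul_zero])
  have hy : orderOf (g ^ m) = p := by
    rw [orderOf_pow_of_dvd hm0 (hm ▸ dvd_mul_left m p), hm,
      Nat.mul_div_cancel _ (Nat.pos_of_ne_zero hm0)]
  obtain ⟨Q, hQ, -⟩ := SmallGroups.existsUnique_sylow_of_orderOf P hP hy
  set M : Subgroup G := Subgroup.normalizer ((Q : Subgroup G) : Set G) with hM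
  have hgM : g ∈ M := by
    rw [hM, hQ, Subgroup.mem_normalizer_iff]
    intro h
    have hc : ∀ z ∈ Subgroup.zpowers (g ^ m), g * z * g⁻¹ = z := by
      rintro _ ⟨k, rfl⟩
      rw [((Commute.refl g).pow_right m).zpow_right k |>.eq, mul_inv_cancel_right]
    refine ⟨fun h' => ?_, fun h' => ?_⟩
    · exact (hc h h').symm ▸ h'
    · have h2 := hc _ h'
      have h3 : g * h * g⁻¹ = h := by
        have := congrArg (fun z => g⁻¹ * z * g) h2
        simpa [mul_assoc] using this
      rwa [← h3]
  have hidx : M.index = Nat.card (Sylow p G) := (Sylow.card_eq_index_normalizer Q).symm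
  have hN' : cnt G p * N = cnt G p * Nat.card M := by
    rw [hN, ← Subgroup.card_mul_index M, hidx,
      show cnt G p = _ from SmallGroups.card_orderOf_eq_prime P hP]
    ring
  have hpos : 0 < cnt G p := hy ▸ cnt_pos_of_orderOf (g ^ m)
  rw [Nat.eq_of_mul_eq_mul_left hpos hN']
  simpa using orderOf_dvd_natCard (⟨g, hgM⟩ : M)

section

variable (hG : Nat.card G = 10200960)
  (hmem : ∀ n, 0 < cnt G n → cnt G n ∈ vals)
  (hex : ∀ v ∈ vals, ∃ n, cnt G n = v)

include hex in
theorem cnt_two : cnt G 2 = 3795 := by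
  obtain ⟨n, hn⟩ := hex 3795 (by decide)
  obtain ⟨g, hg⟩ := exists_orderOf_of_cnt_pos (G := G) (n := n) (by omega)
  have hn0 : 0 < n := hg ▸ orderOf_pos g
  rcases Nat.lt_or_ge 2 n with h | h
  · have := cnt_even (G := G) h
    omega
  · have hn1 : n ≠ 1 := fun h1 => by
      subst h1
      rw [cnt_one] at hn
      omega
    rwa [show n = 2 by omega] at hn

include hG hmem hex in
/-- Only one value is repeated, and only once. -/
theorem exists_extra : ∃ k0, cnt G k0 = 1457280 ∧
    ∀ m n, 0 < cnt G m → cnt G m = cnt G n → m = k0 ∨ n = k0 ∨ m = n := by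
  classical
  cases nonempty_fintype G
  have c2 := cnt_two hex
  have c1 : cnt G 1 = 1 := cnt_one
  choose! sec hsec using hex
  have hinj : Set.InjOn sec vals := fun v hv' w hw e => by rw [← hsec v hv', ← hsec w hw, e]
  have hpos : ∀ v ∈ vals, 0 < v := by decide
  have hsmall : ∀ n, 0 < cnt G n → cnt G n % 2 = 1 → n = 1 ∨ n = 2 := by
    intro n hn hodd
    obtain ⟨g, hg⟩ := exists_orderOf_of_cnt_pos hn
    have hn0 : 0 < n := hg ▸ orderOf_pos g
    by_contra h
    have := cnt_even (G := G) (n := n) (by omega)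
    omega
  set Ord : Finset ℕ := Finset.univ.image fun g : G => orderOf g with hOrd
  set T : Finset ℕ := vals.image sec with hT
  have hsub : T ⊆ Ord := by
    intro k hk
    obtain ⟨v, hv', rfl⟩ := Finset.mem_image.mp hk
    obtain ⟨g, hg⟩ := exists_orderOf_of_cnt_pos (G := G) (n := sec v) (by
      rw [hsec v hv']; exact hpos v hv')
    exact Finset.mem_image.mpr ⟨g, Finset.mem_univ g, hg⟩
  have hsumO : ∑ k ∈ Ord, cnt G k = 10200960 := by
    rw [← hG, Nat.card_eq_fintype_card, ← Finset.card_univ,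
      Finset.card_eq_sum_card_image (fun g : G => orderOf g) Finset.univ]
    exact Finset.sum_congr rfl fun k _ => cnt_eq_card k
  have hsumT : ∑ k ∈ T, cnt G k = 8743680 := by
    rw [hT, Finset.sum_image hinj, Finset.sum_congr rfl hsec]
    decide
  have hsumD : ∑ k ∈ Ord \ T, cnt G k = 1457280 := by
    have := Finset.sum_sdiff (f := fun k => cnt G k) hsub
    omega
  have hD : ∀ k ∈ Ord \ T, 0 < cnt G k ∧ cnt G k % 2 = 0 := by
    intro k hk
    obtain ⟨hkO, hkT⟩ := Finset.mem_sdiff.mp hk
    obtain ⟨g, -, hg⟩ := Finset.mem_image.mp hkO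
    refine ⟨hg ▸ cnt_pos_of_orderOf g, ?_⟩
    by_contra hodd
    have hin : ∀ v ∈ vals, v % 2 = 1 → cnt G k = v → False := by
      intro v hv' hv2 hk'
      apply hkT
      refine Finset.mem_image.mpr ⟨v, hv', ?_⟩
      have h1 := hsmall k (by omega) (by omega)
      have h2 := hsmall (sec v) (by rw [hsec v hv']; omega) (by rw [hsec v hv']; exact hv2)
      have h3 := hsec v hv'
      rcases h1 with rfl | rfl <;> rcases h2 with h2 | h2 <;> rw [h2] at h3 ⊢ <;> omega
    exact hin _ (hmem k (hg ▸ cnt_pos_of_orderOf g)) (by omega) rfl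
  obtain ⟨k0, hk0, hk0v⟩ : ∃ k0 ∈ Ord \ T, cnt G k0 = 1457280 := by
    by_contra hno
    push Not at hno
    have h7 : 7 ∣ ∑ k ∈ Ord \ T, cnt G k := Finset.dvd_sum fun k hk => by
      have h1 := hmem k (hD k hk).1
      have h2 := (hD k hk).2
      have h3 := hno k hk
      simp only [vals, Finset.mem_insert, Finset.mem_singleton] at h1
      omega
    rw [hsumD] at h7
    norm_num at h7
  have honly : ∀ k ∈ Ord \ T, k = k0 := by
    intro k hk
    by_contra hne
    have h := Finset.add_sum_erase (f := fun k => cnt G k) _ hk0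
    have h' : cnt G k ≤ ∑ j ∈ (Ord \ T).erase k0, cnt G j :=
      Finset.single_le_sum (f := fun j => cnt G j) (fun j _ => Nat.zero_le _)
        (Finset.mem_erase.mpr ⟨hne, hk⟩)
    have := (hD k hk).1
    simp only [hk0v] at h
    omega
  have heq : ∀ k : ℕ, 0 < cnt G k → k = k0 ∨ k = sec (cnt G k) := by
    intro k hk
    obtain ⟨g, hg⟩ := exists_orderOf_of_cnt_pos hk
    have hkO : k ∈ Ord := Finset.mem_image.mpr ⟨g, Finset.mem_univ g, hg⟩
    by_cases hkT : k ∈ T
    · obtain ⟨v, hv', rfl⟩ := Finset.mem_image.mp hkT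
      exact Or.inr (by rw [hsec v hv'])
    · exact Or.inl (honly k (Finset.mem_sdiff.mpr ⟨hkO, hkT⟩))
  refine ⟨k0, hk0v, fun m n hm h => ?_⟩
  rcases heq m hm with h1 | h1
  · exact Or.inl h1
  rcases heq n (h ▸ hm) with h2 | h2
  · exact Or.inr (Or.inl h2)
  exact Or.inr (Or.inr (by rw [h1, h, ← h2]))

include hG hmem hex

/-- A value other than the repeated one is taken once. -/
theorem cnt_inj {m n : ℕ} (hm : 0 < cnt G m) (h : cnt G m = cnt G n)
    (hne : cnt G m ≠ 1457280) : m = n := by
  obtain ⟨k0, hk0, hk⟩ := exists_extra hG hmem hex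
  rcases hk m n hm h with rfl | rfl | h'
  · exact absurd hk0 hne
  · exact absurd (h.trans hk0) hne
  · exact h'

theorem cnt_prime {p v : ℕ}
    (hp : (p = 3 ∧ v = 56672) ∨ (p = 5 ∧ v = 680064) ∨ (p = 7 ∧ v = 1457280) ∨
      (p = 11 ∧ v = 1854720) ∨ (p = 23 ∧ v = 887040)) : cnt G p = v := by
  have hpp : p.Prime := by
    rcases hp with ⟨rfl, -⟩ | ⟨rfl, -⟩ | ⟨rfl, -⟩ | ⟨rfl, -⟩ | ⟨rfl, -⟩ <;> norm_num
  have hd : p ∣ Nat.card G := by
    rw [hG]; rcases hp with ⟨rfl, -⟩ | ⟨rfl, -⟩ | ⟨rfl, -⟩ | ⟨rfl, -⟩ | ⟨rfl, -⟩ <;> norm_num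
  haveI : Fact p.Prime := ⟨hpp⟩
  obtain ⟨x, hx⟩ := exists_prime_orderOf_dvd_card' (G := G) p hd
  have h1 := hmem p (hx ▸ cnt_pos_of_orderOf x)
  have h2 := prime_dvd_succ_cnt (G := G) hpp hd
  simp only [vals, Finset.mem_insert, Finset.mem_singleton] at h1
  rcases hp with ⟨rfl, rfl⟩ | ⟨rfl, rfl⟩ | ⟨rfl, rfl⟩ | ⟨rfl, rfl⟩ | ⟨rfl, rfl⟩ <;> omega

theorem cnt_three : cnt G 3 = 56672 := cnt_prime hG hmem hex (Or.inl ⟨rfl, rfl⟩)

theorem cnt_five : cnt G 5 = 680064 := cnt_prime hG hmem hex (Or.inr (Or.inl ⟨rfl, rfl⟩))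

theorem cnt_seven : cnt G 7 = 1457280 :=
  cnt_prime hG hmem hex (Or.inr (Or.inr (Or.inl ⟨rfl, rfl⟩)))

theorem cnt_eleven : cnt G 11 = 1854720 :=
  cnt_prime hG hmem hex (Or.inr (Or.inr (Or.inr (Or.inl ⟨rfl, rfl⟩))))

theorem cnt_twentythree : cnt G 23 = 887040 :=
  cnt_prime hG hmem hex (Or.inr (Or.inr (Or.inr (Or.inr ⟨rfl, rfl⟩))))

theorem exists_sylow {p : ℕ} (hp : p = 5 ∨ p = 7 ∨ p = 11 ∨ p = 23) :
    ∃ P : Sylow p G, Nat.card (P : Subgroup G) = p := by
  haveI hf : Fact p.Prime := ⟨by rcases hp with rfl | rfl | rfl | rfl <;> norm_num⟩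
  obtain ⟨P⟩ : Nonempty (Sylow p G) := inferInstance
  refine ⟨P, ?_⟩
  rw [SmallGroups.card_sylow_eq P (k := 1) (m := 10200960 / p)
    (by rw [hG]; rcases hp with rfl | rfl | rfl | rfl <;> norm_num)
    (by rcases hp with rfl | rfl | rfl | rfl <;> norm_num), pow_one]

/-- The orders divisible by 5, 7, 11 or 23 divide the orders of the Sylow normalisers. -/
theorem orderOf_dvd_bound {p N : ℕ}
    (hp : (p = 5 ∧ N = 60) ∨ (p = 7 ∧ N = 42) ∨ (p = 11 ∧ N = 55) ∨ (p = 23 ∧ N = 253)) {g : G}
    (hg : p ∣ orderOf g) : orderOf g ∣ N := by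
  have hp' : p = 5 ∨ p = 7 ∨ p = 11 ∨ p = 23 := by omega
  haveI hf : Fact p.Prime := ⟨by rcases hp' with rfl | rfl | rfl | rfl <;> norm_num⟩
  obtain ⟨P, hP⟩ := exists_sylow hG hmem hex hp'
  refine orderOf_dvd_normalizer P hP ?_ hg
  rw [hG]
  rcases hp with ⟨rfl, rfl⟩ | ⟨rfl, rfl⟩ | ⟨rfl, rfl⟩ | ⟨rfl, rfl⟩
  · rw [cnt_five hG hmem hex]
  · rw [cnt_seven hG hmem hex]
  · rw [cnt_eleven hG hmem hex]
  · rw [cnt_twentythree hG hmem hex]

/-- The elements of order 10: none. -/
theorem cnt_ten : cnt G 10 = 0 := by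
  by_contra h
  haveI : Fact (Nat.Prime 5) := ⟨by norm_num⟩
  obtain ⟨P, hP⟩ := exists_sylow hG hmem hex (p := 5) (Or.inl rfl)
  obtain ⟨j, hj⟩ : cnt G 5 ∣ cnt G 10 := cnt_dvd_cnt_mul (m := 2) P hP (by norm_num) two_ne_zero
  have c5 := cnt_five hG hmem hex
  have h1 := hmem 10 (Nat.pos_of_ne_zero h)
  have hinj : cnt G 10 ≠ cnt G 5 := fun e => by
    have := cnt_inj hG hmem hex (Nat.pos_of_ne_zero h) e (by omega)
    omega
  have h10 := OrderCount.dvd_card_pow_eq_one (G := G) (n := 10) (by rw [hG]; norm_num)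
  rw [card_pow_eq_one (by norm_num), show Nat.divisors 10 = {1, 2, 5, 10} by decide,
    Finset.sum_insert (by decide), Finset.sum_insert (by decide), Finset.sum_insert (by decide),
    Finset.sum_singleton, cnt_one, cnt_two hex, c5] at h10
  simp only [vals, Finset.mem_insert, Finset.mem_singleton] at h1
  rw [c5] at hj
  omega

/-- The elements of order 21: none. -/
theorem cnt_twentyone : cnt G 21 = 0 := by
  by_contra h
  haveI : Fact (Nat.Prime 7) := ⟨by norm_num⟩
  obtain ⟨P, hP⟩ := exists_sylow hG hmem hex (p := 7) (Or.inr (Or.inl rfl))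
  obtain ⟨j, hj⟩ : cnt G 7 ∣ cnt G 21 := cnt_dvd_cnt_mul (m := 3) P hP (by norm_num) (by norm_num)
  have c7 := cnt_seven hG hmem hex
  have h1 := hmem 21 (Nat.pos_of_ne_zero h)
  have h21 := OrderCount.dvd_card_pow_eq_one (G := G) (n := 21) (by rw [hG]; norm_num)
  rw [card_pow_eq_one (by norm_num), show Nat.divisors 21 = {1, 3, 7, 21} by decide,
    Finset.sum_insert (by decide), Finset.sum_insert (by decide), Finset.sum_insert (by decide),
    Finset.sum_singleton, cnt_one, cnt_three hG hmem hex, c7] at h21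
  simp only [vals, Finset.mem_insert, Finset.mem_singleton] at h1
  rw [c7] at hj
  omega

theorem cnt_fourteen : cnt G 14 = 1457280 := by
  haveI : Fact (Nat.Prime 7) := ⟨by norm_num⟩
  obtain ⟨P, hP⟩ := exists_sylow hG hmem hex (p := 7) (Or.inr (Or.inl rfl))
  obtain ⟨j, hj⟩ : cnt G 7 ∣ cnt G 14 := cnt_dvd_cnt_mul (m := 2) P hP (by norm_num) two_ne_zero
  have c7 := cnt_seven hG hmem hex
  have h14 := OrderCount.dvd_card_pow_eq_one (G := G) (n := 14) (by rw [hG]; norm_num)
  rw [card_pow_eq_one (by norm_num), show Nat.divisors 14 = {1, 2, 7, 14} by decide,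
    Finset.sum_insert (by decide), Finset.sum_insert (by decide), Finset.sum_insert (by decide),
    Finset.sum_singleton, cnt_one, cnt_two hex, c7] at h14
  rw [c7] at hj
  have h1 := hmem 14 (by omega)
  simp only [vals, Finset.mem_insert, Finset.mem_singleton] at h1
  omega

theorem cnt_fifteen : cnt G 15 = 1360128 := by
  haveI : Fact (Nat.Prime 5) := ⟨by norm_num⟩
  obtain ⟨P, hP⟩ := exists_sylow hG hmem hex (p := 5) (Or.inl rfl)
  obtain ⟨j, hj⟩ : cnt G 5 ∣ cnt G 15 := cnt_dvd_cnt_mul (m := 3) P hP (by norm_num) (by norm_num)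
  have c5 := cnt_five hG hmem hex
  have h15 := OrderCount.dvd_card_pow_eq_one (G := G) (n := 15) (by rw [hG]; norm_num)
  rw [card_pow_eq_one (by norm_num), show Nat.divisors 15 = {1, 3, 5, 15} by decide,
    Finset.sum_insert (by decide), Finset.sum_insert (by decide), Finset.sum_insert (by decide),
    Finset.sum_singleton, cnt_one, cnt_three hG hmem hex, c5] at h15
  rw [c5] at hj
  have hpos : 0 < cnt G 15 := by
    by_contra h0
    rw [Nat.eq_zero_of_not_pos h0] at h15
    norm_num at h15
  have hinj : cnt G 15 ≠ 680064 := fun e => by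
    have := cnt_inj hG hmem hex hpos (e.trans c5.symm) (by rw [e]; norm_num)
    norm_num at this
  have h1 := hmem 15 hpos
  simp only [vals, Finset.mem_insert, Finset.mem_singleton] at h1
  rcases h1 with e | e | e | e | e | e | e | e | e | e | e <;> rw [e] at hj hinj ⊢ <;> omega

/-- The repeated value belongs to 7 and 14. -/
theorem eq_of_cnt_top {n : ℕ} (h : cnt G n = 1457280) : n = 7 ∨ n = 14 := by
  obtain ⟨k0, hk0, hk⟩ := exists_extra hG hmem hex
  have c7 := cnt_seven hG hmem hex
  have c14 := cnt_fourteen hG hmem hex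
  have h1 := hk n 7 (by omega) (by omega)
  have h2 := hk n 14 (by omega) (by omega)
  have h3 := hk 7 14 (by omega) (by omega)
  omega

/-- The element orders divisible by 5, 7, 11 or 23. -/
theorem orderOf_large {p : ℕ} (hp : p = 5 ∨ p = 7 ∨ p = 11 ∨ p = 23) {g : G}
    (hg : p ∣ orderOf g) : orderOf g ∈ ({5, 7, 11, 14, 15, 23} : Finset ℕ) := by
  have hsub : ∀ d, d ∣ orderOf g → d ≠ 10 ∧ d ≠ 21 := fun d hd => by
    have hpos : 0 < cnt G d := by
      have := cnt_pos_of_orderOf (g ^ (orderOf g / d))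
      rwa [orderOf_pow_orderOf_div (orderOf_pos g).ne' hd] at this
    constructor <;> rintro rfl
    · exact hpos.ne' (cnt_ten hG hmem hex)
    · exact hpos.ne' (cnt_twentyone hG hmem hex)
  have h10 : ¬ 10 ∣ orderOf g := fun h => (hsub 10 h).1 rfl
  have h21 : ¬ 21 ∣ orderOf g := fun h => (hsub 21 h).2 rfl
  have key5 : 5 ∣ orderOf g → orderOf g = 5 ∨ orderOf g = 15 := fun h5 => by
    have hd : orderOf g ∈ Nat.divisors 60 := Nat.mem_divisors.mpr
      ⟨orderOf_dvd_bound hG hmem hex (Or.inl ⟨rfl, rfl⟩) h5, by norm_num⟩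
    exact (show ∀ k ∈ Nat.divisors 60, 5 ∣ k → ¬ 10 ∣ k → k = 5 ∨ k = 15 by decide +kernel) _ hd
      h5 h10
  have key11 : 11 ∣ orderOf g → orderOf g = 11 := fun h11 => by
    have hd : orderOf g ∈ Nat.divisors 55 := Nat.mem_divisors.mpr
      ⟨orderOf_dvd_bound hG hmem hex (Or.inr (Or.inr (Or.inl ⟨rfl, rfl⟩))) h11, by norm_num⟩
    have hcase : orderOf g = 11 ∨ 5 ∣ orderOf g :=
      (show ∀ k ∈ Nat.divisors 55, 11 ∣ k → k = 11 ∨ 5 ∣ k by decide +kernel) _ hd h11
    rcases hcase with h | h
    · exact h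
    · have := key5 h
      omega
  simp only [Finset.mem_insert, Finset.mem_singleton]
  rcases hp with rfl | rfl | rfl | rfl
  · have := key5 hg
    omega
  · have hd : orderOf g ∈ Nat.divisors 42 := Nat.mem_divisors.mpr
      ⟨orderOf_dvd_bound hG hmem hex (Or.inr (Or.inl ⟨rfl, rfl⟩)) hg, by norm_num⟩
    have := (show ∀ k ∈ Nat.divisors 42, 7 ∣ k → ¬ 21 ∣ k → k = 7 ∨ k = 14 by decide +kernel) _ hd
      hg h21
    omega
  · have := key11 hg
    omega
  · have hd : orderOf g ∈ Nat.divisors 253 := Nat.mem_divisors.mpr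
      ⟨orderOf_dvd_bound hG hmem hex (Or.inr (Or.inr (Or.inr ⟨rfl, rfl⟩))) hg, by norm_num⟩
    have hcase : orderOf g = 23 ∨ 11 ∣ orderOf g :=
      (show ∀ k ∈ Nat.divisors 253, 23 ∣ k → k = 23 ∨ 11 ∣ k by decide +kernel) _ hd hg
    rcases hcase with h | h
    · omega
    · have := key11 h
      omega

/-- A further element order has one of the three remaining values. -/
theorem cnt_other {n : ℕ} (hn : 0 < cnt G n)
    (h : n ∉ ({1, 2, 3, 5, 7, 11, 14, 15, 23} : Finset ℕ)) :
    cnt G n = 318780 ∨ cnt G n = 850080 ∨ cnt G n = 1275120 := by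
  have h1 := hmem n hn
  have htop : cnt G n ≠ 1457280 := fun e => h (by
    rcases eq_of_cnt_top hG hmem hex e with rfl | rfl <;> decide)
  have key : ∀ m ∈ ({1, 2, 3, 5, 11, 15, 23} : Finset ℕ), cnt G n ≠ cnt G m := fun m hm e =>
    h (cnt_inj hG hmem hex hn e htop ▸ (by
      simp only [Finset.mem_insert, Finset.mem_singleton] at hm ⊢
      omega))
  have e1 := key 1 (by decide)
  have e2 := key 2 (by decide)
  have e3 := key 3 (by decide)
  have e5 := key 5 (by decide)
  have e11 := key 11 (by decide)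
  have e15 := key 15 (by decide)
  have e23 := key 23 (by decide)
  rw [cnt_one] at e1
  rw [cnt_two hex] at e2
  rw [cnt_three hG hmem hex] at e3
  rw [cnt_five hG hmem hex] at e5
  rw [cnt_eleven hG hmem hex] at e11
  rw [cnt_fifteen hG hmem hex] at e15
  rw [cnt_twentythree hG hmem hex] at e23
  simp only [vals, Finset.mem_insert, Finset.mem_singleton] at h1
  omega

/-- A further element order is a candidate. -/
theorem mem_cands {n : ℕ} (hn : 0 < cnt G n)
    (h : n ∉ ({1, 2, 3, 5, 7, 11, 14, 15, 23} : Finset ℕ)) : n ∈ cands := by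
  obtain ⟨g, rfl⟩ := exists_orderOf_of_cnt_pos hn
  have hG' : orderOf g ∣ 1152 * 8855 := by
    rw [show 1152 * 8855 = 10200960 by norm_num, ← hG]; exact orderOf_dvd_natCard g
  have key : ∀ p : ℕ, p = 5 ∨ p = 7 ∨ p = 11 ∨ p = 23 → p.Prime → Nat.Coprime (orderOf g) p :=
    fun p hp hpp => Nat.Coprime.symm <| hpp.coprime_iff_not_dvd.2 fun hd => h <| by
      have := orderOf_large hG hmem hex hp hd
      simp only [Finset.mem_insert, Finset.mem_singleton] at this ⊢
      omega
  have hcop : Nat.Coprime (orderOf g) 8855 := by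
    rw [show 8855 = 5 * 7 * 11 * 23 by norm_num]
    exact (((key 5 (by omega) (by norm_num)).mul_right (key 7 (by omega) (by norm_num))).mul_right
      (key 11 (by omega) (by norm_num))).mul_right (key 23 (by omega) (by norm_num))
  have hdiv : orderOf g ∈ Nat.divisors 1152 :=
    Nat.mem_divisors.mpr ⟨hcop.dvd_of_dvd_mul_right hG', by norm_num⟩
  exact (show ∀ k ∈ Nat.divisors 1152, k ∉ ({1, 2, 3, 5, 7, 11, 14, 15, 23} : Finset ℕ) →
    k ∈ cands by decide +kernel) _ hdiv h

/-- The elements of order four, six and eight. -/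
theorem exists_rest :
    cnt G 6 = 850080 ∧
      ((cnt G 4 = 318780 ∧ cnt G 8 = 1275120) ∨ (cnt G 8 = 318780 ∧ cnt G 4 = 1275120)) := by
  classical
  have c1 : cnt G 1 = 1 := cnt_one
  have c2 := cnt_two hex
  have c3 := cnt_three hG hmem hex
  have c5 := cnt_five hG hmem hex
  have c7 := cnt_seven hG hmem hex
  have c11 := cnt_eleven hG hmem hex
  have c14 := cnt_fourteen hG hmem hex
  have c15 := cnt_fifteen hG hmem hex
  have c23 := cnt_twentythree hG hmem hex
  obtain ⟨a, ha⟩ := hex 318780 (by decide)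
  obtain ⟨b, hb⟩ := hex 850080 (by decide)
  obtain ⟨e, he⟩ := hex 1275120 (by decide)
  have out : ∀ n v : ℕ, cnt G n = v → (v = 318780 ∨ v = 850080 ∨ v = 1275120) →
      n ∉ ({1, 2, 3, 5, 7, 11, 14, 15, 23} : Finset ℕ) := by
    intro n v hv hv' hn
    simp only [Finset.mem_insert, Finset.mem_singleton] at hn
    rcases hn with rfl | rfl | rfl | rfl | rfl | rfl | rfl | rfl | rfl <;> omega
  have hac := mem_cands hG hmem hex (n := a) (by omega) (out a _ ha (Or.inl rfl))
  have hbc := mem_cands hG hmem hex (n := b) (by omega) (out b _ hb (Or.inr (Or.inl rfl)))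
  have hec := mem_cands hG hmem hex (n := e) (by omega) (out e _ he (Or.inr (Or.inr rfl)))
  -- the other element orders
  have hfit : ∀ n : ℕ, 0 < cnt G n → n ∉ ({1, 2, 3, 5, 7, 11, 14, 15, 23} : Finset ℕ) →
      n = a ∨ n = b ∨ n = e := by
    intro n hn h
    rcases cnt_other hG hmem hex hn h with h' | h' | h'
    · exact Or.inl (cnt_inj hG hmem hex hn (h'.trans ha.symm) (by omega))
    · exact Or.inr (Or.inl (cnt_inj hG hmem hex hn (h'.trans hb.symm) (by omega)))
    · exact Or.inr (Or.inr (cnt_inj hG hmem hex hn (h'.trans he.symm) (by omega)))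
  have hdist : a ∉ ({1, 2, 3, b, e} : Finset ℕ) ∧ b ∉ ({1, 2, 3, e} : Finset ℕ) ∧
      e ∉ ({1, 2, 3} : Finset ℕ) := by
    refine ⟨fun h => ?_, fun h => ?_, fun h => ?_⟩ <;>
      simp only [Finset.mem_insert, Finset.mem_singleton] at h
    · rcases h with rfl | rfl | rfl | rfl | rfl <;> omega
    · rcases h with rfl | rfl | rfl | rfl <;> omega
    · rcases h with rfl | rfl | rfl <;> omega
  -- solutions of `g ^ d = 1`
  have hsol : ∀ d ∈ [8, 9, 18, 32, 192], solCount a b e d % d = 0 := by
    intro d hd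
    have hd0 : d ≠ 0 := by rintro rfl; simp at hd
    have hdN : d ∣ Nat.card G := by
      rw [hG]
      exact (show ∀ d ∈ [8, 9, 18, 32, 192], d ∣ 10200960 by decide) d hd
    have hd1 : d % 5 ≠ 0 ∧ d % 7 ≠ 0 ∧ d % 11 ≠ 0 ∧ d % 23 ≠ 0 :=
      (show ∀ d ∈ [8, 9, 18, 32, 192], d % 5 ≠ 0 ∧ d % 7 ≠ 0 ∧ d % 11 ≠ 0 ∧ d % 23 ≠ 0 by
        decide) d hd
    have h := OrderCount.dvd_card_pow_eq_one hdN
    rw [card_pow_eq_one hd0] at h
    rw [← Nat.dvd_iff_mod_eq_zero]
    refine h.trans (dvd_of_eq ?_)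
    have hsupp : ∀ m ∈ Nat.divisors d, m ∉ ({1, 2, 3, a, b, e} : Finset ℕ) → cnt G m = 0 := by
      intro m hm hm'
      by_contra hc
      have h6 := hfit m (Nat.pos_of_ne_zero hc) (by
        intro h6
        have hmd := Nat.dvd_of_mem_divisors hm
        simp only [Finset.mem_insert, Finset.mem_singleton] at h6 hm'
        rcases h6 with rfl | rfl | rfl | rfl | rfl | rfl | rfl | rfl | rfl <;>
          first
            | exact hm' (by tauto)
            | (have := Nat.mod_eq_zero_of_dvd hmd; omega))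
      simp only [Finset.mem_insert, Finset.mem_singleton] at hm'
      tauto
    calc ∑ m ∈ Nat.divisors d, cnt G m
        = ∑ m ∈ Nat.divisors d, if m ∈ ({1, 2, 3, a, b, e} : Finset ℕ) then cnt G m else 0 :=
          Finset.sum_congr rfl fun m hm => by
            split
            · rfl
            · exact hsupp m hm ‹_›
      _ = ∑ m ∈ ({1, 2, 3, a, b, e} : Finset ℕ), if m ∈ Nat.divisors d then cnt G m else 0 := by
          rw [← Finset.sum_filter, ← Finset.sum_filter, Finset.filter_mem_eq_inter,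
            Finset.filter_mem_eq_inter, Finset.inter_comm]
      _ = solCount a b e d := by
          rw [Finset.sum_insert (by simp only [Finset.mem_insert, Finset.mem_singleton, not_or] at hdist ⊢
                                    omega),
            Finset.sum_insert (by simp only [Finset.mem_insert, Finset.mem_singleton, not_or] at hdist ⊢
                                  omega),
            Finset.sum_insert (by simp only [Finset.mem_insert, Finset.mem_singleton, not_or] at hdist ⊢
                                  omega),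
            Finset.sum_insert (by simp only [Finset.mem_insert, Finset.mem_singleton, not_or] at hdist ⊢
                                  omega),
            Finset.sum_insert (by simp only [Finset.mem_insert, Finset.mem_singleton, not_or] at hdist ⊢
                                  omega),
            Finset.sum_singleton, c1, c2, c3, ha, hb, he]
          simp only [Nat.mem_divisors, ne_eq, hd0, not_false_iff, and_true, Nat.dvd_iff_mod_eq_zero,
            solCount, Nat.mod_one, if_pos]
          ring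
  have hclos : ∀ x ∈ [a, b, e], ∀ y ∈ [4, 8], x % y = 0 → y ∈ [a, b, e] := by
    intro x hx y hy hxy
    have hpos : 0 < cnt G x := by
      simp only [List.mem_cons, List.not_mem_nil, or_false] at hx
      rcases hx with rfl | rfl | rfl <;> omega
    obtain ⟨g, hg⟩ := exists_orderOf_of_cnt_pos hpos
    have hgy : orderOf (g ^ (orderOf g / y)) = y :=
      orderOf_pow_orderOf_div (orderOf_pos g).ne' (hg ▸ Nat.dvd_of_mod_eq_zero hxy)
    have hy' := hfit y (hgy ▸ cnt_pos_of_orderOf _) (by
      simp only [List.mem_cons, List.not_mem_nil, or_false] at hy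
      rcases hy with rfl | rfl <;> decide)
    simpa [List.mem_cons] using hy'
  have hadm : admissible a b e = true := by
    simp only [admissible, Bool.and_eq_true, List.all_eq_true, beq_iff_eq, Bool.or_eq_true,
      bne_iff_ne, List.contains_iff_mem]
    refine ⟨⟨?_, hsol⟩, fun x hx y hy => ?_⟩
    · simp only [Finset.mem_insert, Finset.mem_singleton, not_or] at hdist
      omega
    by_cases hxy : x % y = 0
    · exact Or.inr (hclos x hx y hy hxy)
    · exact Or.inl hxy
  obtain ⟨h6, h⟩ := eq_of_admissible hac hbc hec hadm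
  subst h6
  refine ⟨hb, ?_⟩
  rcases h with ⟨rfl, rfl⟩ | ⟨rfl, rfl⟩
  · exact Or.inl ⟨ha, he⟩
  · exact Or.inr ⟨ha, he⟩

theorem ord_mem (g : G) :
    orderOf g ∈ ({1, 2, 3, 4, 5, 6, 7, 8, 11, 14, 15, 23} : Finset ℕ) := by
  by_contra h
  simp only [Finset.mem_insert, Finset.mem_singleton, not_or] at h
  have hn := cnt_pos_of_orderOf g
  have h' : orderOf g ∉ ({1, 2, 3, 5, 7, 11, 14, 15, 23} : Finset ℕ) := by
    simp only [Finset.mem_insert, Finset.mem_singleton, not_or]
    omega
  have hv := cnt_other hG hmem hex hn h'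
  obtain ⟨h6, h48⟩ := exists_rest hG hmem hex
  have key : ∀ m : ℕ, orderOf g ≠ m → cnt G (orderOf g) ≠ cnt G m := fun m hm e =>
    hm (cnt_inj hG hmem hex hn e (by omega))
  have k4 := key 4 (by omega)
  have k6 := key 6 (by omega)
  have k8 := key 8 (by omega)
  omega

theorem isSimpleGroup : IsSimpleGroup G := by
  classical
  cases nonempty_fintype G
  haveI : Nontrivial G := Finite.one_lt_card_iff_nontrivial.mp (by rw [hG]; norm_num)
  refine ⟨fun N hN => ?_⟩
  haveI := hN
  by_contra hne
  rw [not_or] at hne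
  have hmul : Nat.card N * N.index = 10200960 := hG ▸ N.card_mul_index
  have hidx : 1 < N.index := by
    rcases Nat.lt_or_ge 1 N.index with h | h
    · exact h
    · exfalso
      have h1 : N.index = 1 := le_antisymm h (Nat.one_le_iff_ne_zero.mpr N.index_ne_zero_of_finite)
      exact hne.2 (Subgroup.index_eq_one.mp h1)
  have hN1 : Nat.card N ≠ 1 := fun h => hne.1 (Subgroup.card_eq_one.mp h)
  -- the elements of order prime to the index
  set s : Finset ℕ := ({1, 5, 7, 11, 14, 15, 23} : Finset ℕ).filter fun n => Nat.Coprime n N.index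
    with hs
  have hlo : ∑ n ∈ s, cnt G n ≤ Nat.card N := by
    rw [← card_orderOf_mem, Nat.card_eq_fintype_card, Fintype.card_subtype]
    exact Finset.card_le_card fun g hg => Finset.mem_filter.mpr ⟨Finset.mem_univ g,
      M11Order.mem_of_coprime_index (Finset.mem_filter.mp (Finset.mem_filter.mp hg).2).2⟩
  rw [hs, Finset.sum_filter, Finset.sum_insert (by decide), Finset.sum_insert (by decide),
    Finset.sum_insert (by decide), Finset.sum_insert (by decide), Finset.sum_insert (by decide),
    Finset.sum_insert (by decide), Finset.sum_singleton, if_pos (Nat.coprime_one_left _), cnt_one,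
    cnt_five hG hmem hex, cnt_seven hG hmem hex, cnt_eleven hG hmem hex, cnt_fourteen hG hmem hex,
    cnt_fifteen hG hmem hex, cnt_twentythree hG hmem hex] at hlo
  -- free action of the elements of order 11 and 23
  have hfree : ∀ p : ℕ, p = 11 ∨ p = 23 → Nat.card N % p ≤ 1 := by
    intro p hp
    haveI hf : Fact p.Prime := ⟨by rcases hp with rfl | rfl <;> norm_num⟩
    by_cases hd : p ∣ Nat.card N
    · rw [Nat.mod_eq_zero_of_dvd hd]
      exact Nat.zero_le 1
    obtain ⟨y, hy⟩ := exists_prime_orderOf_dvd_card' (G := G) p (by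
      rw [hG]; rcases hp with rfl | rfl <;> norm_num)
    refine le_of_eq (M11Order.free_card N hy (fun a => ⟨fun ha => hN.conj_mem a ha y, fun ha => by
      simpa [mul_assoc] using hN.conj_mem _ ha y⁻¹⟩) fun k hk hc => ?_)
    have hok : orderOf k ∣ Nat.card N := by simpa using orderOf_dvd_natCard (⟨k, hk⟩ : N)
    have hcop : (orderOf y).Coprime (orderOf k) := by
      rw [hy]
      exact hf.out.coprime_iff_not_dvd.2 fun h => hd (h.trans hok)
    have hyk : orderOf (y * k) = p * orderOf k := by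
      rw [(show Commute y k from hc).orderOf_mul_eq_mul_orderOf_of_coprime hcop, hy]
    have h1 := orderOf_large hG hmem hex (p := p) (g := y * k) (by omega)
      (hyk ▸ dvd_mul_right p _)
    simp only [Finset.mem_insert, Finset.mem_singleton, hyk] at h1
    refine orderOf_eq_one_iff.mp ?_
    rcases hp with rfl | rfl <;> omega
  have hdvd : N.index ∣ 1152 * 8855 := Dvd.intro_left (Nat.card N) (hmul.trans (by norm_num))
  obtain ⟨i, j, hi, hj, hij⟩ := Nat.dvd_mul.mp hdvd
  have hcard : Nat.card N = 10200960 / N.index := by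
    rw [← hmul, Nat.mul_div_cancel _ (by omega : 0 < N.index)]
  have hchk := index_check i (Nat.mem_divisors.mpr ⟨hi, by norm_num⟩) j
    (Nat.mem_divisors.mpr ⟨hj, by norm_num⟩) (by rw [hij]; exact hidx) (by
      rw [hij, ← hmul]
      exact lt_mul_left (by omega) (by have := Nat.card_pos (α := N); omega))
  rw [hij, ← hcard, lowCount] at hchk
  rcases hchk with h | h
  · omega
  · exact h ⟨hfree 11 (Or.inl rfl), hfree 23 (Or.inr rfl)⟩

end

end Hist

/-- The order and the set of the numbers of elements of each order determine the counts. -/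
theorem facts_of_counts {G : Type u} [Group G] [Finite G] (hG : Nat.card G = 10200960)
    (hmem : ∀ n, 0 < Nat.card {g : G // orderOf g = n} → Nat.card {g : G // orderOf g = n} ∈
      [1, 3795, 56672, 318780, 680064, 850080, 1457280, 1275120, 1854720, 1360128, 887040])
    (hex : ∀ c ∈ [1, 3795, 56672, 318780, 680064, 850080, 1457280, 1275120, 1854720, 1360128,
      887040], ∃ n, c = Nat.card {g : G // orderOf g = n}) : Facts G := by
  have hmem' : ∀ n, 0 < cnt G n → cnt G n ∈ Hist.vals := fun n hn => by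
    simpa [Hist.vals, cnt] using hmem n hn
  have hex' : ∀ v ∈ Hist.vals, ∃ n, cnt G n = v := fun v hv => by
    obtain ⟨n, hn⟩ := hex v (by simpa [Hist.vals] using hv)
    exact ⟨n, hn.symm⟩
  exact
    { card := hG
      simple := Hist.isSimpleGroup hG hmem' hex'
      ord_mem := Hist.ord_mem hG hmem' hex'
      c2 := Hist.cnt_two hex'
      c3 := Hist.cnt_three hG hmem' hex'
      c5 := Hist.cnt_five hG hmem' hex'
      c6 := (Hist.exists_rest hG hmem' hex').1
      c7 := Hist.cnt_seven hG hmem' hex'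
      c11 := Hist.cnt_eleven hG hmem' hex'
      c14 := Hist.cnt_fourteen hG hmem' hex'
      c15 := Hist.cnt_fifteen hG hmem' hex'
      c23 := Hist.cnt_twentythree hG hmem' hex' }

end Cfsg.Agent.Lib.M23Nse
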